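import Groth.Agent.LefPenLib.Hyp
import Groth.Agent.H23.PnChart
import Groth.Agent.Proj16.Map
import Mathlib.Algebra.Category.Ring.Constructions
import Mathlib.RingTheory.TensorProduct.MvPolynomial

/-!
# Projective space and hypersurfaces under field extensions and diagonal changes of coordinates
-/

set_option autoImplicit false
set_option linter.style.haveILetI false
set_option linter.unusedSectionVars false
set_option backward.isDefEq.respectTransparency false
set_option backward.isDefEq.respectTransparency.types false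
set_option maxHeartbeats 1000000

universe u

open CategoryTheory CategoryTheory.Limits AlgebraicGeometry HomogeneousIdeal
open MvPolynomial (X C)
open HomogeneousLocalization (Away)
attribute [local instance] MvPolynomial.algebraMvPolynomial

noncomputable section

namespace Groth.Agent.PlaneCubic

variable {r : ℕ} {k K : Type u} [Field k] [Field K] (f : k →+* K) (l : Fin (r + 1) → Kˣ)

/-- Extending the coefficients and scaling the coordinates. -/
def scaleHom : MvPolynomial (Fin (r + 1)) k →+* MvPolynomial (Fin (r + 1)) K :=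
  MvPolynomial.eval₂Hom ((C).comp f) fun j => C (l j : K) * X j

@[simp] theorem scaleHom_C (c : k) : scaleHom f l (C c) = C (f c) := by simp [scaleHom]

@[simp] theorem scaleHom_X (j : Fin (r + 1)) : scaleHom f l (X j) = C (l j : K) * X j := by simp [scaleHom]

theorem scaleHom_homogeneous {d : ℕ} {p : MvPolynomial (Fin (r + 1)) k} (hp : p.IsHomogeneous d) :
    (scaleHom f l p).IsHomogeneous d := by
  have := hp.eval₂ (f := (C : K →+* MvPolynomial (Fin (r + 1)) K).comp f) (g := fun j => C (l j : K) * X j)
    (n := 1) (fun c => MvPolynomial.isHomogeneous_C _ _) fun j => by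
      simpa using (MvPolynomial.isHomogeneous_C _ (l j : K)).mul (MvPolynomial.isHomogeneous_X K j)
  rwa [one_mul] at this

/-- Scaling as a map of graded rings. -/
def scaleGr : CohB1.polyGrading r k →+*ᵍ CohB1.polyGrading r K :=
  { scaleHom f l with
    map_mem := fun {i x} hx => (MvPolynomial.mem_homogeneousSubmodule i _).2
      (scaleHom_homogeneous f l ((MvPolynomial.mem_homogeneousSubmodule i x).1 hx)) }

@[simp] theorem scaleGr_apply (p : MvPolynomial (Fin (r + 1)) k) : scaleGr f l p = scaleHom f l p := rfl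

theorem irrelevant_le_span_X :
    (irrelevant (CohB1.polyGrading r k)).toIdeal ≤
      Ideal.span (Set.range fun i : Fin (r + 1) => (X i : MvPolynomial (Fin (r + 1)) k)) := by
  refine (toIdeal_irrelevant_le _).2 fun i hi x hx => ?_
  have hspan : Set.range (fun i : Fin (r + 1) => (X i : MvPolynomial (Fin (r + 1)) k)) = X '' Set.univ :=
    Set.image_univ.symm
  show x ∈ Ideal.span _
  rw [hspan, MvPolynomial.mem_ideal_span_X_image]
  intro m hm
  by_contra! h
  have h1 := (MvPolynomial.mem_homogeneousSubmodule i x).1 hx (MvPolynomial.mem_support_iff.1 hm)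
  have h0 : m = 0 := Finsupp.ext fun j => h j (Set.mem_univ j)
  simp [h0] at h1
  omega

theorem scale_irrelevant :
    irrelevant (CohB1.polyGrading r K) ≤ (irrelevant (CohB1.polyGrading r k)).map (scaleGr f l) := by
  refine toIdeal_le_toIdeal_iff.1 (irrelevant_le_span_X.trans (Ideal.span_le.2 ?_))
  rintro _ ⟨j, rfl⟩
  have hx : scaleHom f l (X j) ∈ ((irrelevant (CohB1.polyGrading r k)).map (scaleGr f l)).toIdeal :=
    Ideal.mem_map_of_mem _ (mem_irrelevant_of_mem _ Nat.one_pos (LefPen.X_mem r k j))
  have h : (X j : MvPolynomial (Fin (r + 1)) K) = C (((l j)⁻¹ : Kˣ) : K) * scaleHom f l (X j) := by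
    rw [scaleHom_X, ← mul_assoc, ← map_mul, Units.inv_mul, map_one, one_mul]
  show X j ∈ ((irrelevant (CohB1.polyGrading r k)).map (scaleGr f l)).toIdeal
  rw [h]
  exact Ideal.mul_mem_left _ _ hx

/-- The map of projective spaces. -/
def scaleMap : CohB1.ProjSpace r K ⟶ CohB1.ProjSpace r k :=
  Proj.map (scaleGr f l) (scale_irrelevant f l)

/-- The cover by the standard charts. -/
def chartCover (r : ℕ) (k : Type u) [Field k] : (Proj (CohB1.polyGrading r k)).AffineOpenCover :=
  Proj.affineOpenCoverOfIrrelevantLESpan (CohB1.polyGrading r k) (fun i : Fin (r + 1) => (X i : MvPolynomial _ k))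
    (m := fun _ => 1) (LefPen.X_mem r k) (fun _ => Nat.one_pos) irrelevant_le_span_X

/-- The structure map of a chart. -/
def awayBase (K : Type u) [Field K] (s : MvPolynomial (Fin (r + 1)) K) : K →+* Away (CohB1.polyGrading r K) s :=
  (HomogeneousLocalization.fromZeroRingHom (CohB1.polyGrading r K) (Submonoid.powers s)).comp
    (algebraMap K (CohB1.polyGrading r K 0))

theorem awayBase_eq (i : Fin (r + 1)) : awayBase K (X i) = ZetaLib.base r K i := rfl

/-- The coordinate rings of the charts under an extension of the field. -/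
theorem isPushout_aux (i : Fin (r + 1)) (s : MvPolynomial (Fin (r + 1)) K) (hs : s = X i)
    (am : Away (CohB1.polyGrading r k) (X i) →+* Away (CohB1.polyGrading r K) s)
    (hb : ∀ c : k, (am (ZetaLib.base r k i c)).val = algebraMap _ _ (C (f c) : MvPolynomial (Fin (r + 1)) K))
    (hc : ∀ j : Fin (r + 1), (am (ZetaLib.coord r k i j)).val * algebraMap _ _ s =
      algebraMap _ _ (X j : MvPolynomial (Fin (r + 1)) K)) :
    IsPushout (CommRingCat.ofHom (ZetaLib.base r k i)) (CommRingCat.ofHom f)
      (CommRingCat.ofHom am) (CommRingCat.ofHom (awayBase K s)) := by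
  subst hs
  letI : Algebra k K := f.toAlgebra
  let σ := H23.PnChart.Idx.{u} r i
  have h0 : IsPushout (CommRingCat.ofHom (algebraMap k (MvPolynomial σ k))) (CommRingCat.ofHom (algebraMap k K))
      (CommRingCat.ofHom (algebraMap (MvPolynomial σ k) (MvPolynomial σ K)))
      (CommRingCat.ofHom (algebraMap K (MvPolynomial σ K))) :=
    CommRingCat.isPushout_of_isPushout k (MvPolynomial σ k) K (MvPolynomial σ K)
  haveI : IsIso (CommRingCat.ofHom (H23.PnChart.fromChart.{u, u} r k i)) := (ConcreteCategory.isIso_iff_bijective _).2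
    ⟨H23.PnChart.fromChart_injective r k i, H23.PnChart.fromChart_surjective r k i⟩
  haveI : IsIso (CommRingCat.ofHom (H23.PnChart.fromChart.{u, u} r K i)) := (ConcreteCategory.isIso_iff_bijective _).2
    ⟨H23.PnChart.fromChart_injective r K i, H23.PnChart.fromChart_surjective r K i⟩
  refine h0.of_iso (Iso.refl _) (asIso (CommRingCat.ofHom (H23.PnChart.fromChart.{u, u} r k i))) (Iso.refl _)
    (asIso (CommRingCat.ofHom (H23.PnChart.fromChart.{u, u} r K i))) ?_ ?_ ?_ ?_
  · refine CommRingCat.hom_ext (RingHom.ext fun c => ?_)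
    show H23.PnChart.fromChart r k i (C c) = ZetaLib.base r k i c
    exact MvPolynomial.eval₂Hom_C _ _ c
  · rfl
  · refine CommRingCat.hom_ext (MvPolynomial.ringHom_ext (fun c => ?_) fun j => ?_)
    · show H23.PnChart.fromChart r K i (MvPolynomial.map f (C c)) = am (H23.PnChart.fromChart r k i (C c))
      rw [MvPolynomial.map_C, H23.PnChart.fromChart, H23.PnChart.fromChart, MvPolynomial.eval₂Hom_C,
        MvPolynomial.eval₂Hom_C]
      exact HomogeneousLocalization.val_injective _ ((ZetaLib.val_base r K i (f c)).trans (hb c).symm)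
    · show H23.PnChart.fromChart r K i (MvPolynomial.map f (X j)) = am (H23.PnChart.fromChart r k i (X j))
      rw [MvPolynomial.map_X, H23.PnChart.fromChart, H23.PnChart.fromChart, MvPolynomial.eval₂Hom_X',
        MvPolynomial.eval₂Hom_X']
      refine HomogeneousLocalization.val_injective _ ((IsLocalization.map_units _ (⟨X i, 1, pow_one _⟩ :
          Submonoid.powers (X i : MvPolynomial (Fin (r + 1)) K))).mul_left_injective ?_)
      exact (ZetaLib.val_coord r K i j.down.1).trans (hc j.down.1).symm
  · refine CommRingCat.hom_ext (RingHom.ext fun c => ?_)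
    show H23.PnChart.fromChart r K i (C c) = awayBase K (X i) c
    exact MvPolynomial.eval₂Hom_C _ _ c

/-- The coordinate rings of the charts, over the fields. -/
theorem isPushout_chart (i : Fin (r + 1)) :
    IsPushout (CommRingCat.ofHom (ZetaLib.base r k i)) (CommRingCat.ofHom f)
      (CommRingCat.ofHom (Away.map (scaleGr f (1 : Fin (r + 1) → Kˣ)) (X i)))
      (CommRingCat.ofHom (awayBase K (scaleGr f (1 : Fin (r + 1) → Kˣ) (X i)))) := by
  refine isPushout_aux f i _ (by simp) _ (fun c => ?_) fun j => ?_
  · show (HomogeneousLocalization.map _ _ (HomogeneousLocalization.mk _)).val = _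
    rw [HomogeneousLocalization.map_mk, HomogeneousLocalization.val_mk, ← Localization.mk_one_eq_algebraMap,
      Localization.mk_eq_mk_iff, Localization.r_iff_exists]
    exact ⟨1, by simp [MvPolynomial.algebraMap_eq]⟩
  · rw [ZetaLib.coord, Away.map_mk, Away.val_mk, ← Localization.mk_one_eq_algebraMap,
      ← Localization.mk_one_eq_algebraMap, Localization.mk_mul, Localization.mk_eq_mk_iff, Localization.r_iff_exists]
    exact ⟨1, by simp [mul_comm]⟩

theorem isPullback_scaleMap_one :
    IsPullback (scaleMap f 1) (CohB1.ProjSpace.toSpec r K) (CohB1.ProjSpace.toSpec r k)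
      (Spec.map (CommRingCat.ofHom f)) := by
  refine Scheme.isPullback_of_openCover _ _ _ _ (chartCover r k).openCover fun i => ?_
  let s : MvPolynomial (Fin (r + 1)) k := X i
  let φ := scaleGr f (1 : Fin (r + 1) → Kˣ)
  have hs : s ∈ CohB1.polyGrading r k 1 := LefPen.X_mem r k i
  let a := Proj.awayι (CohB1.polyGrading r k) s hs Nat.one_pos
  let a' := Proj.awayι (CohB1.polyGrading r K) (φ s) (φ.2 hs) Nat.one_pos
  have sq : IsPullback a' (Spec.map (CommRingCat.ofHom (Away.map φ s))) (scaleMap f 1) a := by
    refine (IsOpenImmersion.isPullback _ _ _ _ (Proj.awayι_comp_map φ (scale_irrelevant f 1) Nat.one_pos _ hs) ?_).flip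
    rw [Proj.opensRange_awayι, Proj.opensRange_awayι, Proj.map_preimage_basicOpen]
  have hk : a ≫ CohB1.ProjSpace.toSpec r k = Spec.map (CommRingCat.ofHom (ZetaLib.base r k i)) :=
    ZetaLib.chart_toSpec i
  have hK : a' ≫ CohB1.ProjSpace.toSpec r K = Spec.map (CommRingCat.ofHom
      (awayBase K (φ s))) := by
    show Proj.awayι _ (φ s) _ _ ≫ Proj.toSpecZero _ ≫ _ = _
    rw [← Category.assoc, Proj.awayι_toSpecZero, ← Spec.map_comp]
    rfl
  have h1 := isPullback_SpecMap_of_isPushout _ _ _ _ (isPushout_chart f i)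
  rw [← hk, ← hK] at h1
  refine h1.of_iso sq.isoPullback (Iso.refl _) (Iso.refl _) (Iso.refl _) ?_ ?_ ?_ ?_
  · simp only [Scheme.Cover.pullbackHom, Iso.refl_hom, Category.comp_id]
    exact sq.isoPullback_hom_snd.symm
  · simp only [Iso.refl_hom, Category.comp_id]
    exact (congrArg (· ≫ CohB1.ProjSpace.toSpec r K) sq.isoPullback_hom_fst.symm).trans (Category.assoc _ _ _)
  · simp only [Iso.refl_hom, Category.comp_id, Category.id_comp]
    rfl
  · simp

theorem scaleHom_id_comp :
    (scaleHom (RingHom.id K) l).comp (scaleHom f 1) = scaleHom f l :=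
  MvPolynomial.ringHom_ext (fun c => by simp) fun j => by simp

theorem isIso_scaleMap_id : IsIso (scaleMap (RingHom.id K) l) := by
  refine Proj16.isIso_map_of_bijOn _ _ fun n _ => ?_
  have hinv : ∀ (a b : Fin (r + 1) → Kˣ), (∀ j, (a j : K) * b j = 1) →
      ∀ p, scaleHom (RingHom.id K) a (scaleHom (RingHom.id K) b p) = p := by
    intro a b hab p
    exact DFunLike.congr_fun (MvPolynomial.ringHom_ext (f := (scaleHom (RingHom.id K) a).comp (scaleHom (RingHom.id K) b))
      (g := RingHom.id _) (fun c => by simp) fun j => by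
        rw [RingHom.comp_apply, scaleHom_X, map_mul, scaleHom_C, scaleHom_X, ← mul_assoc, ← map_mul, RingHom.id_apply,
          RingHom.id_apply, mul_comm (b j : K), hab, map_one, one_mul]) p
  refine Set.InvOn.bijOn (f' := scaleHom (RingHom.id K) l⁻¹) ⟨fun p _ => ?_, fun p _ => ?_⟩
    (fun p hp => (scaleGr (RingHom.id K) l).2 hp) (fun p hp => (scaleGr (RingHom.id K) l⁻¹).2 hp)
  · exact hinv _ _ (fun j => by simp) p
  · exact hinv _ _ (fun j => by simp) p

theorem scaleMap_comp : scaleMap (RingHom.id K) l ≫ scaleMap f 1 = scaleMap f l := by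
  show Proj.map _ _ ≫ Proj.map _ _ = Proj.map _ _
  rw [← Proj.map_comp]
  congr 1
  exact GradedRingHom.ext fun p => DFunLike.congr_fun (scaleHom_id_comp f l) p

theorem scaleMap_id_toSpec :
    scaleMap (RingHom.id K) l ≫ CohB1.ProjSpace.toSpec r K = CohB1.ProjSpace.toSpec r K := by
  refine (Proj.mapAffineOpenCover (scaleGr (RingHom.id K) l) (scale_irrelevant _ l)).openCover.hom_ext _ _ fun s => ?_
  simp only [Scheme.AffineOpenCover.openCover_f, Proj.mapAffineOpenCover_f, scaleMap, CohB1.ProjSpace.toSpec]
  rw [Proj.awayι_comp_map_assoc _ _ s.1.2 _ s.2.2, Proj.awayι_toSpecZero_assoc, Proj.awayι_toSpecZero_assoc,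
    ← Spec.map_comp, ← Spec.map_comp, ← Spec.map_comp]
  congr 1
  refine CommRingCat.hom_ext (RingHom.ext fun c => ?_)
  show Away.map (scaleGr (RingHom.id K) l) _ (HomogeneousLocalization.fromZeroRingHom (CohB1.polyGrading r K) _
    (algebraMap K _ c)) = HomogeneousLocalization.fromZeroRingHom (CohB1.polyGrading r K) _ (algebraMap K _ c)
  refine HomogeneousLocalization.val_injective _ ?_
  show (HomogeneousLocalization.map _ _ (HomogeneousLocalization.mk _)).val = (HomogeneousLocalization.mk _).val
  rw [HomogeneousLocalization.map_mk, HomogeneousLocalization.val_mk, HomogeneousLocalization.val_mk,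
    Localization.mk_eq_mk_iff, Localization.r_iff_exists]
  exact ⟨1, by simp [MvPolynomial.algebraMap_eq]⟩

/-- Extension of the field with a diagonal change of coordinates is a base change. -/
theorem isPullback_scaleMap :
    IsPullback (scaleMap f l) (CohB1.ProjSpace.toSpec r K) (CohB1.ProjSpace.toSpec r k)
      (Spec.map (CommRingCat.ofHom f)) := by
  haveI := isIso_scaleMap_id l
  rw [← scaleMap_comp]
  exact (isPullback_scaleMap_one f).of_iso (asIso (scaleMap (RingHom.id K) l)).symm (Iso.refl _) (Iso.refl _)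
    (Iso.refl _) (by simp) (by simp [scaleMap_id_toSpec]) (by simp) (by simp)

variable {d : ℕ}

/-- The transformed form. -/
def scaleForm (G : LefPen.Form r k d) : LefPen.Form r K d :=
  ⟨scaleHom f l G.1, (MvPolynomial.mem_homogeneousSubmodule d _).2
    (scaleHom_homogeneous f l ((MvPolynomial.mem_homogeneousSubmodule d _).1 G.2))⟩

theorem scaleMap_preimage_chart (i : Fin (r + 1)) :
    scaleMap f l ⁻¹ᵁ LefPen.chart r k i = LefPen.chart r K i := by
  show Proj.map _ _ ⁻¹ᵁ Proj.basicOpen _ _ = _
  rw [Proj.map_preimage_basicOpen, scaleGr_apply, scaleHom_X, Proj.basicOpen_mul]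
  refine inf_eq_right.2 (fun x _ => ?_)
  exact fun hx => x.isPrime.ne_top (Ideal.eq_top_of_isUnit_mem _ hx ((l i).isUnit.map C))

theorem appLE_dehom (G : LefPen.Form r k d) (i : Fin (r + 1)) :
    ∃ u : Γ(CohB1.ProjSpace r K, LefPen.chart r K i), IsUnit u ∧
      u * (scaleMap f l).appLE (LefPen.chart r k i) (LefPen.chart r K i) (scaleMap_preimage_chart f l i).ge
        (LefPen.dehom G i) = LefPen.dehom (scaleForm f l G) i := by
  have hle : LefPen.chart r K i ≤ Proj.basicOpen (CohB1.polyGrading r K) (scaleGr f l (X i)) :=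
    (scaleMap_preimage_chart f l i).ge
  refine ⟨(Proj.awayToSection (CohB1.polyGrading r K) (X i)).hom (awayBase K (X i) ((l i : K) ^ d)),
    (((l i).isUnit.pow d).map _).map _, ?_⟩
  have h1 : (scaleMap f l).appLE (LefPen.chart r k i) (LefPen.chart r K i) (scaleMap_preimage_chart f l i).ge
      (LefPen.dehom G i) = (CohB1.ProjSpace r K).presheaf.map (homOfLE hle).op
      ((Proj.awayToSection (CohB1.polyGrading r K) (scaleGr f l (X i))).hom
        (Away.map (scaleGr f l) (X i) (Away.mk (CohB1.polyGrading r k) (LefPen.X_mem r k i) d G.1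
          (by rw [smul_eq_mul, mul_one]; exact G.2)))) := by
    rw [← Scheme.Hom.appLE_map (scaleMap f l) (le_refl (Proj.basicOpen (CohB1.polyGrading r K) (scaleGr f l (X i))))
      (homOfLE hle).op]
    exact congrArg ((CohB1.ProjSpace r K).presheaf.map (homOfLE hle).op)
      (ConcreteCategory.congr_hom (Proj.awayToSection_comp_appLE (scaleGr f l) (scale_irrelevant f l)
        (LefPen.X_mem r k i)) _)
  rw [h1, Away.map_mk, LefPen.dehom]
  refine Subtype.ext (funext fun x => HomogeneousLocalization.val_injective _ ?_)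
  refine (HomogeneousLocalization.val_mul _ _).trans ?_
  erw [ProjectiveSpectrum.Proj.awayToSection_apply, ProjectiveSpectrum.Proj.awayToSection_apply,
    ProjectiveSpectrum.Proj.awayToSection_apply]
  show IsLocalization.map _ _ _ (HomogeneousLocalization.mk _).val * _ = _
  rw [HomogeneousLocalization.val_mk, Away.val_mk, Away.val_mk, Localization.mk_eq_mk' (M := Submonoid.powers _),
    IsLocalization.map_mk', ← Localization.mk_eq_mk', Localization.mk_eq_mk' (M := Submonoid.powers _),
    IsLocalization.map_mk', ← Localization.mk_eq_mk',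
    IsLocalization.map_mk', ← Localization.mk_eq_mk', Localization.mk_mul, Localization.mk_eq_mk_iff,
    Localization.r_iff_exists]
  refine ⟨1, ?_⟩
  simp [scaleForm, MvPolynomial.algebraMap_eq, mul_pow]
  ring

theorem comap_hypIdeal (G : LefPen.Form r k d) :
    (LefPen.hypIdeal G).comap (scaleMap f l) = LefPen.hypIdeal (scaleForm f l G) := by
  refine Scheme.IdealSheafData.ext_of_iSup_eq_top (fun i : Fin (r + 1) => LefPenLib.chartAff i)
    LefPenLib.iSup_chart fun i => ?_
  rw [ModPairLib.ideal_comap _ _ (LefPenLib.chartAff i) _ (scaleMap_preimage_chart f l i).ge,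
    LefPenLib.hypIdeal_chart, LefPenLib.hypIdeal_chart, Ideal.map_span, Set.image_singleton]
  obtain ⟨u, hu, he⟩ := appLE_dehom f l G i
  rw [← he]
  exact (Ideal.span_singleton_mul_left_unit hu _).symm

/-- A hypersurface after extension of the field and change of coordinates. -/
theorem isPullback_hyp (G : LefPen.Form r k d) :
    ∃ g : (LefPen.hypIdeal (scaleForm f l G)).subscheme ⟶ (LefPen.hypIdeal G).subscheme,
      IsPullback g ((LefPen.hypIdeal (scaleForm f l G)).subschemeι ≫ CohB1.ProjSpace.toSpec r K)
        ((LefPen.hypIdeal G).subschemeι ≫ CohB1.ProjSpace.toSpec r k) (Spec.map (CommRingCat.ofHom f)) := by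
  rw [← comap_hypIdeal f l G]
  let e := (LefPen.hypIdeal G).comapIso (scaleMap f l)
  refine ⟨e.hom ≫ pullback.snd _ _, ?_⟩
  have h := ((IsPullback.of_hasPullback (scaleMap f l) (LefPen.hypIdeal G).subschemeι).flip).paste_vert
    (isPullback_scaleMap f l)
  exact h.of_iso e.symm (Iso.refl _) (Iso.refl _) (Iso.refl _)
    (by rw [Iso.symm_hom, Iso.refl_hom, Category.comp_id]; exact (e.inv_hom_id_assoc _).symm)
    (by simp [e]) (by simp) (by simp)

end Groth.Agent.PlaneCubic
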