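import Groth.Agent.PlaneCurveCoh.Cover
import Groth.Agent.HypSmooth.Projective
import Groth.Prelude.Def_ModFun

/-!
# Smooth plane cubics are curves of genus one
-/

set_option autoImplicit false
set_option linter.style.haveILetI false
set_option linter.unusedSectionVars false
set_option backward.isDefEq.respectTransparency false
set_option backward.isDefEq.respectTransparency.types false
set_option maxHeartbeats 1000000

universe u

open CategoryTheory CategoryTheory.Limits AlgebraicGeometry TopologicalSpace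

noncomputable section

namespace Groth.Agent.PlaneCubic

section

variable {K : Type u} [Field K] (G : LefPen.Form 2 K 3) (hG : G ≠ 0)
  [(LefPen.hypIdeal G).subscheme.Over (Spec (CommRingCat.of K))]
  (hinst : (LefPen.hypIdeal G).subscheme ↘ (Spec (CommRingCat.of K)) =
    (LefPen.hypIdeal G).subschemeι ≫ CohB1.ProjSpace.toSpec 2 K)

set_option quotPrecheck false
local notation "C" => (LefPen.hypIdeal G).subscheme

include hG hinst

theorem cubic_h (i : ℕ) (hi : i ≤ 1) : Module.finrank K (Coh.HH C (Coh.structureModule C) i) = 1 := by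
  obtain ⟨e⟩ := PlaneCurveCoh.tw_zero G
  obtain ⟨h0, h1⟩ := PlaneCurveCoh.finrank_tw G hG (by norm_num) hinst 0
  rcases Nat.le_one_iff_eq_zero_or_eq_one.1 hi with rfl | rfl
  · rw [← (CurveCohLib.hhEquiv (k := K) e 0).finrank_eq, h0]; rfl
  · rw [← (CurveCohLib.hhEquiv (k := K) e 1).finrank_eq, h1]; rfl

theorem cubic_isProper : IsProper (C ↘ Spec (CommRingCat.of K)) := by
  haveI := PnCoh.Chow.isProper_toSpec 2 K
  rw [hinst]
  infer_instance

theorem cubic_dim : topologicalKrullDim C = 1 := by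
  haveI := cubic_isProper G hG hinst
  haveI := CurveCohLib.isNoetherian_of_proper (k := K) (X := C)
  haveI := CurveBC.connectedSpace_of_h0 K C (cubic_h G hG hinst 0 zero_le_one)
  refine le_antisymm (Order.le_of_lt_succ (lt_of_lt_of_eq (PlaneCurveCoh.dim_lt_two G hG) rfl)) ?_
  by_contra h
  haveI : (C).IsSeparated := ⟨by
    rw [← Limits.terminal.comp_from (C ↘ Spec (CommRingCat.of K))]
    infer_instance⟩
  haveI : Subsingleton (Coh.HH C (Coh.structureModule C) 1) := by
    refine Snapper.subsingleton_HH_of_dim_lt (X := C) 1 ⊤ ?_ _ QCoh.isQCoh_structureModule (Set.subset_univ _) 1 le_rfl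
    refine lt_of_eq_of_lt ?_ (not_le.1 h)
    exact (Homeomorph.Set.univ C).isHomeomorph.topologicalKrullDim_eq
  have h1 := cubic_h G hG hinst 1 le_rfl
  rw [Module.finrank_zero_of_subsingleton] at h1
  exact zero_ne_one h1

end

/-- A smooth plane cubic is a curve of genus one. -/
theorem isCurveOfGenus_one {K : Type u} [Field K] (G : LefPen.Form 2 K 3) (hG : G ≠ 0) (hsm : Smooth ((LefPen.hypIdeal G).subschemeι ≫ CohB1.ProjSpace.toSpec 2 K)) :
    ModFun.IsCurveOfGenus 1 ((LefPen.hypIdeal G).subschemeι ≫ CohB1.ProjSpace.toSpec 2 K) := by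
  letI : (LefPen.hypIdeal G).subscheme.Over (Spec (CommRingCat.of K)) := ⟨(LefPen.hypIdeal G).subschemeι ≫ CohB1.ProjSpace.toSpec 2 K⟩
  haveI : Smooth ((LefPen.hypIdeal G).subscheme ↘ Spec (CommRingCat.of K)) := hsm
  haveI : IsProper ((LefPen.hypIdeal G).subscheme ↘ Spec (CommRingCat.of K)) := cubic_isProper G hG rfl
  have h0 := cubic_h G hG rfl 0 zero_le_one
  haveI := QuasiCompact.compactSpace_of_compactSpace ((LefPen.hypIdeal G).subscheme ↘ Spec (CommRingCat.of K))
  haveI := quasiSeparatedSpace_of_quasiSeparated ((LefPen.hypIdeal G).subscheme ↘ Spec (CommRingCat.of K))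
  refine ⟨hsm, ‹_›, ⟨fun L _ y Z fst snd hZ => ?_⟩, fun Ω _ _ t X i q hX => ?_⟩
  · obtain ⟨φ, rfl⟩ := Spec.map_surjective y
    letI : Algebra K L := φ.hom.toAlgebra
    letI : Z.Over (Spec (CommRingCat.of L)) := ⟨snd⟩
    haveI := CurveBC.isIntegral K L fst hZ h0
    infer_instance
  · obtain ⟨φ, rfl⟩ := Spec.map_surjective t
    letI : Algebra K Ω := φ.hom.toAlgebra
    letI : X.Over (Spec (CommRingCat.of Ω)) := ⟨q⟩
    haveI := CurveBC.isProper K Ω i hX
    refine ⟨CurveBC.topologicalKrullDim_eq K Ω i hX (cubic_dim G hG rfl), ?_⟩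
    exact (CurveBC.genus_eq K Ω i hX).trans (cubic_h G hG rfl 1 le_rfl)

end Groth.Agent.PlaneCubic
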