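import Groth.Agent.PlaneCubic.BaseChange
import Groth.Agent.HypSmooth.Points
import Mathlib.FieldTheory.RatFunc.Basic
import Mathlib.FieldTheory.IsAlgClosed.AlgebraicClosure

/-!
# A cubic curve without rational points and one with a point
-/

set_option autoImplicit false
set_option linter.style.haveILetI false
set_option linter.unusedSectionVars false
set_option backward.isDefEq.respectTransparency false
set_option backward.isDefEq.respectTransparency.types false
set_option maxHeartbeats 1000000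

universe u

open CategoryTheory AlgebraicGeometry
open MvPolynomial (X C pderiv eval aeval)

noncomputable section

namespace Groth.Agent.PlaneCubic

variable {K : Type u} [Field K]

/-- The cubic `x³ + a y³ + a² z³ + c a xyz`. -/
def twPoly (a c : K) : MvPolynomial (Fin (2 + 1)) K :=
  X 0 ^ 3 + C a * X 1 ^ 3 + C (a ^ 2) * X 2 ^ 3 + C (c * a) * (X 0 * X 1 * X 2)

theorem twPoly_mem (a c : K) : twPoly a c ∈ CohB1.polyGrading 2 K 3 := by
  refine (MvPolynomial.mem_homogeneousSubmodule 3 _).2 ?_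
  have hX : ∀ i : Fin (2 + 1), (X i : MvPolynomial (Fin (2 + 1)) K).IsHomogeneous 1 :=
    fun i => MvPolynomial.isHomogeneous_X K i
  have hC : ∀ b : K, (C b : MvPolynomial (Fin (2 + 1)) K).IsHomogeneous 0 :=
    fun b => MvPolynomial.isHomogeneous_C _ b
  exact ((((hX 0).pow 3).add ((hC a).mul ((hX 1).pow 3))).add ((hC _).mul ((hX 2).pow 3))).add
    ((hC _).mul (((hX 0).mul (hX 1)).mul (hX 2)))

/-- The cubic form. -/
def twForm (a c : K) : LefPen.Form 2 K 3 := ⟨twPoly a c, twPoly_mem a c⟩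

theorem eval_twPoly (a c : K) (v : Fin (2 + 1) → K) :
    eval v (twPoly a c) = v 0 ^ 3 + a * v 1 ^ 3 + a ^ 2 * v 2 ^ 3 + c * a * (v 0 * v 1 * v 2) := by
  simp [twPoly]

theorem twForm_ne_zero (a c : K) : twForm a c ≠ 0 := fun h => by
  have h1 := congrArg (eval (![1, 0, 0] : Fin (2 + 1) → K)) (congrArg Subtype.val h)
  simp [twForm, eval_twPoly] at h1

theorem smooth_twForm {a c : K} (ha : a ≠ 0) (hc : ((3 : K) ≠ 0 ∧ c = 0) ∨ ((3 : K) = 0 ∧ c ≠ 0)) :
    Smooth ((LefPen.hypIdeal (twForm a c)).subschemeι ≫ CohB1.ProjSpace.toSpec 2 K) := by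
  refine (HypSmooth.smooth_hyp_iff (twForm a c) (fun h => twForm_ne_zero a c (Subtype.ext h))
    (AlgebraicClosure K)).2 fun v hv h0 => ?_
  by_contra! h
  let φ := algebraMap K (AlgebraicClosure K)
  have ha' : φ a ≠ 0 := (map_ne_zero φ).2 ha
  have h0' : v 0 ^ 3 + φ a * v 1 ^ 3 + φ a ^ 2 * v 2 ^ 3 + φ c * φ a * (v 0 * v 1 * v 2) = 0 := by
    simpa [twForm, twPoly, φ] using h0
  have p0 := h 0
  have p1 := h 1
  have p2 := h 2
  simp [twForm, twPoly, Pi.single_apply] at p0 p1 p2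
  rcases hc with ⟨h3, rfl⟩ | ⟨h3, hc⟩
  · have h3' : (3 : AlgebraicClosure K) ≠ 0 := fun e => h3 (φ.injective (by rw [map_ofNat, map_zero, e]))
    simp [ha, h3'] at p0 p1 p2
    refine hv (funext fun j => ?_)
    fin_cases j <;> assumption
  · have h3' : (3 : AlgebraicClosure K) = 0 := by rw [← map_ofNat φ 3, h3, map_zero]
    simp [ha, hc, h3'] at p0 p1 p2
    refine hv (funext fun j => ?_)
    rcases p0 with e | e <;> rcases p1 with e' | e' <;> rcases p2 with e'' | e'' <;>
      fin_cases j <;> simp_all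

theorem descent_step {k : Type u} [Field k] (c : k) (n : ℕ) {p q r : Polynomial k}
    (h : p ^ 3 + Polynomial.X * q ^ 3 + Polynomial.X ^ 2 * r ^ 3 +
      Polynomial.C c * Polynomial.X * (p * q * r) = 0) :
    Polynomial.X ^ n ∣ p ∧ Polynomial.X ^ n ∣ q ∧ Polynomial.X ^ n ∣ r := by
  induction n generalizing p q r with
  | zero => simp
  | succ n ih =>
    let T : Polynomial k := Polynomial.X
    have hT : Prime T := Polynomial.prime_X
    obtain ⟨p', rfl⟩ : T ∣ p := hT.dvd_of_dvd_pow (n := 3)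
      ⟨-(q ^ 3 + T * r ^ 3 + Polynomial.C c * (p * q * r)), by linear_combination h⟩
    obtain ⟨q', rfl⟩ : T ∣ q := hT.dvd_of_dvd_pow (n := 3)
      ⟨-(T * p' ^ 3 + r ^ 3 + Polynomial.C c * (p' * q * r)), mul_left_cancel₀ hT.ne_zero
        (by linear_combination h)⟩
    obtain ⟨r', rfl⟩ : T ∣ r := hT.dvd_of_dvd_pow (n := 3)
      ⟨-(p' ^ 3 + T * q' ^ 3 + Polynomial.C c * (p' * q' * r)), mul_left_cancel₀ (pow_ne_zero 2 hT.ne_zero)
        (by linear_combination h)⟩
    obtain ⟨a, b, d⟩ := ih (p := p') (q := q') (r := r')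
      (mul_left_cancel₀ (pow_ne_zero 3 hT.ne_zero) (by rw [mul_zero]; linear_combination h))
    refine ⟨?_, ?_, ?_⟩ <;> rw [pow_succ'] <;> exact mul_dvd_mul_left _ ‹_›

theorem no_zero {k : Type u} [Field k] (c : k) (v : Fin (2 + 1) → RatFunc k)
    (h : eval v (twPoly (RatFunc.X : RatFunc k) (algebraMap k (RatFunc k) c)) = 0) : v = 0 := by
  obtain ⟨D, hD⟩ := IsLocalization.exist_integer_multiples (nonZeroDivisors (Polynomial k))
    (Finset.univ : Finset (Fin (2 + 1))) v
  choose P hP using fun j => hD j (Finset.mem_univ j)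
  let φ := algebraMap (Polynomial k) (RatFunc k)
  have hP' : ∀ j, φ (P j) = φ D * v j := fun j => (hP j).trans (Algebra.smul_def _ _)
  have hφX : φ Polynomial.X = RatFunc.X := RatFunc.algebraMap_X
  have hφC : φ (Polynomial.C c) = algebraMap k (RatFunc k) c := by
    rw [← Polynomial.algebraMap_eq, ← IsScalarTower.algebraMap_apply]
  rw [eval_twPoly] at h
  have heq : P 0 ^ 3 + Polynomial.X * P 1 ^ 3 + Polynomial.X ^ 2 * P 2 ^ 3 +
      Polynomial.C c * Polynomial.X * (P 0 * P 1 * P 2) = 0 := by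
    refine RatFunc.algebraMap_injective k ?_
    show φ _ = φ 0
    simp only [map_add, map_mul, map_pow, map_zero, hP', hφX, hφC]
    linear_combination (φ D) ^ 3 * h
  funext j
  have hj : P j = 0 := by
    by_contra hne
    have hd := descent_step c ((P j).natDegree + 1) heq
    have : Polynomial.X ^ ((P j).natDegree + 1) ∣ P j := by
      fin_cases j
      · exact hd.1
      · exact hd.2.1
      · exact hd.2.2
    have h2 := Polynomial.natDegree_le_of_dvd this hne
    rw [Polynomial.natDegree_X_pow] at h2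
    omega
  have h1 := hP' j
  rw [hj, map_zero] at h1
  exact (mul_eq_zero.1 h1.symm).resolve_left
    ((map_ne_zero_iff φ (RatFunc.algebraMap_injective k)).2 (nonZeroDivisors.coe_ne_zero D))

/-- A rational point gives a zero. -/
theorem exists_zero_of_section (G : LefPen.Form 2 K 3) (σ : Spec (CommRingCat.of K) ⟶ (LefPen.hypIdeal G).subscheme)
    (hσ : σ ≫ (LefPen.hypIdeal G).subschemeι ≫ CohB1.ProjSpace.toSpec 2 K = 𝟙 _) :
    ∃ v : Fin (2 + 1) → K, v ≠ 0 ∧ eval v G.1 = 0 := by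
  obtain ⟨t, ht⟩ := ZetaLib.pointAt_surjective (n := 2) (k := K) (K := K) (σ ≫ (LefPen.hypIdeal G).subschemeι)
    (by rw [Category.assoc, hσ, Algebra.algebraMap_self, CommRingCat.ofHom_id, Spec.map_id])
  refine ⟨t.2.1, fun h0 => ?_, (HypSmooth.factors_pointAt_iff G _ _ t.2.2.1).1 ⟨σ, ht.symm⟩⟩
  have h1 := t.2.2.1
  rw [h0] at h1
  exact zero_ne_one h1

/-- The untwisted cubic has a rational point. -/
theorem exists_section_one (c : K) : ∃ σ : Spec (CommRingCat.of K) ⟶ (LefPen.hypIdeal (twForm (1 : K) c)).subscheme,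
    σ ≫ (LefPen.hypIdeal (twForm (1 : K) c)).subschemeι ≫ CohB1.ProjSpace.toSpec 2 K = 𝟙 _ := by
  obtain ⟨σ, hσ⟩ := (HypSmooth.factors_pointAt_iff (twForm (1 : K) c) 0 ![1, -1, 0] rfl).2
    (by simp [twForm, eval_twPoly]; ring)
  refine ⟨σ, ?_⟩
  rw [← Category.assoc, hσ, ZetaLib.pointAt_toSpec, Algebra.algebraMap_self, CommRingCat.ofHom_id, Spec.map_id]

/-- Over a field with a cube root of `a` the twist is undone. -/
theorem scale_twForm {L : Type u} [Field L] (f : K →+* L) (a c : K) (s : Lˣ) (hs : (s : L) ^ 3 = f a) :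
    scaleForm f ![1, s⁻¹, s⁻¹ * s⁻¹] (twForm a c) = twForm (1 : L) (f c) := by
  refine Subtype.ext ?_
  show scaleHom f _ (twPoly a c) = twPoly 1 (f c)
  have e1 : ((s⁻¹ : Lˣ) : L) ^ 3 * f a = 1 := by rw [← hs, ← mul_pow, Units.inv_mul, one_pow]
  simp only [twPoly, map_add, map_mul, map_pow, scaleHom_C, scaleHom_X, mul_pow, one_pow, map_one, one_mul]
  simp only [Matrix.cons_val_zero, Matrix.cons_val_one, Matrix.cons_val, Units.val_one, Units.val_mul, map_one,
    one_mul, map_mul]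
  have e2 : (C (f a) : MvPolynomial (Fin (2 + 1)) L) * C ((s⁻¹ : Lˣ) : L) ^ 3 = 1 := by
    rw [← map_pow, ← map_mul, mul_comm, e1, map_one]
  linear_combination (X 1 ^ 3 + C (f c) * (X 0 * X 1 * X 2) +
    (C (f a) * C ((s⁻¹ : Lˣ) : L) ^ 3 + 1) * X 2 ^ 3) * e2

end Groth.Agent.PlaneCubic
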